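import Cfsg.Agent.H865.EE.PP

/-!
# S3384, piece K (helper111): no transvections

An element `v` of the centralizer of `w8` in `W(E₈)` with `v ^ 5 = 1` which acts on `F₅⁴` (through `PP`) as
`x ↦ x + m(x) c` is trivial. Proof: `(1 - v)² Λ ⊆ (w8 - 2) Λ`, while for a root `g` with `g + v g + ... + v⁴ g = 0` we
have `5 g = (1 - v)⁴ h`, `h ∈ Λ`; so `5 g ∈ (w8 - 2)² Λ` and `PP g = 0`.
-/

set_option autoImplicit false

namespace Cfsg.Agent.H111.EE

open Cfsg.Agent.H865.EE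
open Cfsg.Agent.ChevalleyStructure.CoxeterGeom

attribute [local irreducible] w8

theorem PP_act {v : W8} (hv : v ∈ CW) {x y : Fin 8 → ℤ} (h : PP x = PP y) : PP (act v x) = PP (act v y) := by
  obtain ⟨z, hz⟩ := PP_eq_iff.1 h
  refine PP_eq_iff.2 ⟨act v z, ?_⟩
  rw [← map_sub, hz, map_sub, map_nsmul, mem_CW.1 hv]

theorem PP_val (r : ZMod 5) (x : Fin 8 → ℤ) : PP (r.val • x) = r • PP x := by
  rw [map_nsmul, ← Nat.cast_smul_eq_nsmul (ZMod 5), ZMod.natCast_zmod_val]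

theorem PP_act_smul {v : W8} (hv : v ∈ CW) {x y : Fin 8 → ℤ} {r : ZMod 5} (h : PP y = r • PP x) :
    PP (act v y) = r • PP (act v x) := by
  rw [← PP_val] at h
  rw [PP_act hv h, map_nsmul, PP_val]

/-- `1 - v` twice -/
theorem PP_sub_sub {v : W8} (hv : v ∈ CW) (h5 : v ^ 5 = 1) (c : Fin 4 → ZMod 5)
    (h : ∀ x, ∃ m : ZMod 5, PP (act v x) = PP x + m • c) (z : Fin 8 → ℤ) :
    PP ((z - act v z) - act v (z - act v z)) = 0 := by
  have hf : Fact (Nat.Prime 5) := ⟨by norm_num⟩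
  obtain ⟨x, rfl⟩ := PP_surj c
  obtain ⟨m, hm⟩ := h x
  have hm1 : PP (act v x) = (1 + m) • PP x := by rw [hm, add_smul, one_smul]
  have hk : ∀ k : ℕ, PP (act (v ^ k) x) = (1 + m) ^ k • PP x := by
    intro k
    induction k with
    | zero => rw [pow_zero, pow_zero, act_one, one_smul]
    | succ k ih => rw [pow_succ', act_mul, PP_act_smul hv ih, hm1, smul_smul, pow_succ]
  have h1 : PP (act v x) = PP x := by
    have h2 := hk 5
    rw [h5, act_one, ZMod.pow_card] at h2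
    rw [hm1, ← h2]
  obtain ⟨r, hr⟩ := h z
  have h2 : PP (z - act v z) = (-r) • PP x := by
    rw [map_sub, hr, neg_smul]
    abel
  rw [map_sub, PP_act_smul hv h2, h1, h2, sub_self]

theorem w8_sub_inj {x : Fin 8 → ℤ} (h : act w8 x - 2 • x = 0) : x = 0 := by
  have h1 : act w8 x = 2 • x := sub_eq_zero.1 h
  have h2 := w8_sq x
  rw [h1, map_nsmul, h1] at h2
  have h3 : (5 : ℤ) • x = 0 := by
    calc (5 : ℤ) • x = 2 • 2 • x - -x := by module
      _ = 0 := by rw [h2, sub_self]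
  exact (smul_eq_zero.1 h3).resolve_left (by norm_num)

/-- **Piece K of S3384.** -/
theorem k1 {v : W8} (hv : v ∈ CW) (h5 : v ^ 5 = 1) (c : Fin 4 → ZMod 5)
    (h : ∀ x, ∃ m : ZMod 5, PP (act v x) = PP x + m • c) : v = 1 := by
  by_contra hne
  obtain ⟨g, hg, hsum⟩ := Cfsg.Agent.BpExc.Fix.exists_root_sum_eq_zero (cs := cs8) (h := tp8.isCartan) hne (by norm_num : 0 < 5) h5
  set A : Module.End ℤ (Fin 8 → ℤ) := act v with hA
  have hN : (1 + A + A ^ 2 + A ^ 3 + A ^ 4 : Module.End ℤ (Fin 8 → ℤ)) g = 0 := by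
    rw [← hsum]
    simp only [Finset.sum_range_succ, Finset.sum_range_zero, zero_add, LinearMap.add_apply]
    have hp : ∀ i : ℕ, rep cs8 tp8.isCartan (v ^ i) = A ^ i := fun i => by rw [map_pow]
    rw [hp, hp, hp, hp, hp, pow_zero, pow_one]
  have hid : (5 : Module.End ℤ (Fin 8 → ℤ)) = (1 - A) ^ 4 * ((1 + A) * (1 + A + A ^ 2) * (1 + A + A ^ 2 + A ^ 3)) +
      (4 - 3 * A - A ^ 3 + 2 * A ^ 5 - A ^ 6) * (1 + A + A ^ 2 + A ^ 3 + A ^ 4) := by
    noncomm_ring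
    norm_num
  have hsq : ∀ z : Fin 8 → ℤ, ∃ y, (1 - A) ((1 - A) z) = act w8 y - 2 • y := by
    intro z
    obtain ⟨y, hy⟩ := exists_of_PP (PP_sub_sub hv h5 c h z)
    exact ⟨y, hy⟩
  set u := ((1 + A) * (1 + A + A ^ 2) * (1 + A + A ^ 2 + A ^ 3) : Module.End ℤ (Fin 8 → ℤ)) g with hu
  have h5g : (5 : ℤ) • g = (1 - A) ((1 - A) ((1 - A) ((1 - A) u))) := by
    have h1 := congrArg (fun T : Module.End ℤ (Fin 8 → ℤ) => T g) hid
    simp only [LinearMap.add_apply, Module.End.mul_apply, hN, map_zero, add_zero] at h1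
    have h2 : (5 : Module.End ℤ (Fin 8 → ℤ)) g = (5 : ℤ) • g := by
      have : (5 : Module.End ℤ (Fin 8 → ℤ)) = (5 : ℤ) • 1 := by simp
      rw [this, LinearMap.smul_apply, Module.End.one_apply]
    rw [h2] at h1
    rw [h1, hu]
    rfl
  obtain ⟨z1, hz1⟩ := hsq u
  obtain ⟨z2, hz2⟩ := hsq z1
  have hcomm : ∀ x, (1 - A) (act w8 x - 2 • x) = act w8 ((1 - A) x) - 2 • (1 - A) x := by
    intro x
    simp only [LinearMap.sub_apply, Module.End.one_apply, map_sub, map_nsmul]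
    rw [show A (act w8 x) = act w8 (A x) from mem_CW.1 hv x]
  rw [hz1, hcomm, hcomm, hz2] at h5g
  have h6 : act w8 (act w8 g + 2 • g + (act w8 z2 - 2 • z2)) - 2 • (act w8 g + 2 • g + (act w8 z2 - 2 • z2)) = 0 := by
    have e1 : act w8 (act w8 g + 2 • g) - 2 • (act w8 g + 2 • g) = -((5 : ℤ) • g) := by
      rw [map_add, map_nsmul, w8_sq]
      module
    have e2 : act w8 (act w8 g + 2 • g + (act w8 z2 - 2 • z2)) - 2 • (act w8 g + 2 • g + (act w8 z2 - 2 • z2)) =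
        (act w8 (act w8 g + 2 • g) - 2 • (act w8 g + 2 • g)) +
        (act w8 (act w8 z2 - 2 • z2) - 2 • (act w8 z2 - 2 • z2)) := by
      rw [map_add]
      module
    rw [e2, e1, h5g, neg_add_cancel]
  have h7 := w8_sub_inj h6
  have h8 := congrArg PP h7
  rw [map_add, map_add, map_sub, map_nsmul, map_nsmul, PP_w8, PP_w8, sub_self, add_zero, map_zero, ← add_smul] at h8
  have h9 : (4 : ZMod 5) • PP g = 0 := by
    rw [← h8, ← Nat.cast_smul_eq_nsmul (ZMod 5)]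
    norm_num
  have h10 : PP g = 0 := by
    have h11 : (4 : ZMod 5) • (4 : ZMod 5) • PP g = PP g := by
      rw [smul_smul, show (4 : ZMod 5) * 4 = 1 by decide, one_smul]
    rw [← h11, h9, smul_zero]
  exact PP_ne_zero hg h10

end Cfsg.Agent.H111.EE
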